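import Mathlib
import Cfsg.Agent.Lib.Helper13.BG.LemX
import Cfsg.Agent.Lib.Helper13.BG.S1427Core
import Cfsg.Agent.Lib.Helper2.NormCent
import Cfsg.Agent.Lib.Helper27.BG.SigmaBasic

/-!
Bender–Glauberman 13.10/13.11, parts (P1) and (P2) of helper34's paper proof (note 2134), helper97.

Setting: `M` a maximal subgroup, `E` a complement of `M_σ` in `M`, `E₃` a Hall `τ₃(M)`-subgroup of
`E` (cyclic, normal in `E`, inside `E'` by S1415), `D₃ = C_{M_σ}(E₃)`.

* `comm_of_tau1_free`: `H` a maximal subgroup not conjugate to `M`; an element `e ∈ E ∩ H` none of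
  whose prime divisors of the order lies in `τ₁(H)` centralizes `M_σ ∩ H` (Lemma X primewise).
* `tau3_coatom` (P1b): for `X ≤ E₃` of prime order and a maximal subgroup `H ⊇ N_G(X)`:
  `E ≤ H`, `H` is not conjugate to `M`, `|X| ∈ σ(H) ∪ τ₂(H)`, `M_σ ∩ H = D₃`, the
  `τ₁(H)'`-elements of `E` and the elements of `E ∩ H'` centralize `D₃`.
* `tau3_semiprime` (P1a): `C_{M_σ}(x) = D₃` for all `x ∈ E₃`, `x ≠ 1`.
* `tau2_empty` (P2): if `E₃ ≠ 1` and `D₃ ≠ 1` then `τ₂(M) = ∅`.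

Hypotheses (types only): S1403, S1404, S1405, S1414, S1415, S1416, S1417, S1423 (those of
helper13's `lemX`).
-/

set_option autoImplicit false
set_option linter.style.haveILetI false

namespace Cfsg.Agent.Lib.Helper97.BG

open Cfsg Cfsg.Agent.Lib.Helper46 Cfsg.Agent.Lib.Helper35.BG Cfsg.Agent.Lib.Helper13.BG

variable {G : Type*} [Group G]

/-- An element all of whose primary powers lie in `C` lies in `C`. -/
theorem mem_of_primary_powers_mem [Finite G] (C : Subgroup G) (g : G)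
    (h : ∀ z ∈ Subgroup.zpowers g, ∀ r : ℕ, r.Prime → ∀ j : ℕ, z ^ r ^ j = 1 → z ∈ C) :
    g ∈ C := by
  have key : C.subgroupOf (Subgroup.zpowers g) = ⊤ := by
    apply Cfsg.Agent.Lib.Helper2.eq_top_of_forall_sylow_le
    intro q hq
    obtain ⟨S⟩ : Nonempty (Sylow q (Subgroup.zpowers g)) := inferInstance
    refine ⟨S, ?_⟩
    intro z hz
    obtain ⟨j, hj⟩ := S.isPGroup' ⟨z, hz⟩
    rw [Subgroup.mem_subgroupOf]
    refine h z z.2 q hq.out j ?_
    have := congrArg Subtype.val (congrArg Subtype.val hj)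
    simpa using this
  have h1 : (⟨g, Subgroup.mem_zpowers g⟩ : Subgroup.zpowers g) ∈
      C.subgroupOf (Subgroup.zpowers g) := by
    rw [key]; exact Subgroup.mem_top _
  exact Subgroup.mem_subgroupOf.mp h1

/-- Lemma X, primewise: an element `e ∈ E ∩ H` whose order has no prime divisor in `τ₁(H)`
centralizes `M_σ ∩ H` (`H` not conjugate to `M`). -/
theorem comm_of_tau1_free [Finite G] (hG : IsMinSimpleOddOrder G)
    (h1403 : type_of% (@Cfsg.CfsgFrozen.S1403 G _ _ hG))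
    (h1404 : type_of% (@Cfsg.CfsgFrozen.S1404 G _ _ hG))
    (h1405 : type_of% (@Cfsg.CfsgFrozen.S1405 G _ _ hG))
    (h1414 : type_of% (@Cfsg.CfsgFrozen.S1414 G _ _ hG))
    (h1415 : type_of% (@Cfsg.CfsgFrozen.S1415 G _ _ hG))
    (h1416 : type_of% (@Cfsg.CfsgFrozen.S1416 G _ _ hG))
    (h1417 : type_of% (@Cfsg.CfsgFrozen.S1417 G _ _ hG))
    (h1423 : type_of% (@Cfsg.CfsgFrozen.S1423 G _ _ hG))
    {M H : Subgroup G} (hM : IsCoatom M) (hH : IsCoatom H)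
    (hnc : ∀ g : G, H ≠ M.map (MulAut.conj g).toMonoidHom)
    {E : Subgroup G} (hE : IsComplIn E (sigmaCore M) M)
    {c e : G} (hc : c ∈ sigmaCore M) (hcH : c ∈ H) (he : e ∈ E) (heH : e ∈ H)
    (hτ : ∀ r : ℕ, r.Prime → r ∣ orderOf e → r ∉ tau1 H) : c * e = e * c := by
  have hHall := (Cfsg.Agent.Lib.Helper66.BG.s1350_core hG h1404 h1405 M hM).1
  have key : e ∈ Subgroup.centralizer ({c} : Set G) := by
    apply mem_of_primary_powers_mem
    intro z hz r hr j hzj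
    rw [Subgroup.mem_centralizer_iff]
    intro h hh
    rw [Set.mem_singleton_iff] at hh
    rw [hh]
    by_cases hz1 : z = 1
    · rw [hz1, one_mul, mul_one]
    haveI : Fact r.Prime := ⟨hr⟩
    have hoz : orderOf z ≠ 1 := fun h => hz1 (orderOf_eq_one_iff.mp h)
    have hrz : r ∣ orderOf z := by
      obtain ⟨i, -, hi2⟩ := (Nat.dvd_prime_pow hr).mp (orderOf_dvd_of_pow_eq_one hzj)
      rw [hi2]
      rcases i with _ | i
      · rw [pow_zero] at hi2; exact absurd hi2 hoz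
      · exact dvd_pow_self r (Nat.succ_ne_zero i)
    have hre : r ∣ orderOf e := hrz.trans (orderOf_dvd_of_mem_zpowers hz)
    have hzE : z ∈ E := (Subgroup.zpowers_le.mpr he) hz
    have hzH : z ∈ H := (Subgroup.zpowers_le.mpr heH) hz
    have hrM : r ∉ sigma M := by
      intro hσ
      have h1 := hHall.2.2 r hr hσ
      rw [relIndex_right_of_isComplIn hE] at h1
      exact h1 (hre.trans (Subgroup.orderOf_dvd_natCard E he))
    exact lemX hG h1403 h1404 h1405 h1414 h1415 h1416 h1417 h1423 hM hH hnc hrM (hτ r hr hre)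
      hc hcH (hE.1 hzE) hzH hzj
  exact Subgroup.mem_centralizer_iff.mp key c (Set.mem_singleton c)

/-- **(P1b)** `X ≤ E₃` of prime order, `H` a maximal subgroup containing `N_G(X)`. -/
theorem tau3_coatom [Finite G] (hG : IsMinSimpleOddOrder G)
    (h1403 : type_of% (@Cfsg.CfsgFrozen.S1403 G _ _ hG))
    (h1404 : type_of% (@Cfsg.CfsgFrozen.S1404 G _ _ hG))
    (h1405 : type_of% (@Cfsg.CfsgFrozen.S1405 G _ _ hG))
    (h1414 : type_of% (@Cfsg.CfsgFrozen.S1414 G _ _ hG))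
    (h1415 : type_of% (@Cfsg.CfsgFrozen.S1415 G _ _ hG))
    (h1416 : type_of% (@Cfsg.CfsgFrozen.S1416 G _ _ hG))
    (h1417 : type_of% (@Cfsg.CfsgFrozen.S1417 G _ _ hG))
    (h1423 : type_of% (@Cfsg.CfsgFrozen.S1423 G _ _ hG))
    (M : Subgroup G) (hM : IsCoatom M) (E : Subgroup G) (hE : IsComplIn E (sigmaCore M) M)
    (E₃ : Subgroup G) (hE₃ : IsPiHallOf (tau3 M) E₃ E)
    (X : Subgroup G) (hXE₃ : X ≤ E₃) (hX : (Nat.card X).Prime)
    (H : Subgroup G) (hH : IsCoatom H) (hNH : Subgroup.normalizer (X : Set G) ≤ H) :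
    E ≤ H ∧ (∀ g : G, H ≠ M.map (MulAut.conj g).toMonoidHom) ∧
      (Nat.card X ∈ sigma H ∨ Nat.card X ∈ tau2 H) ∧
      sigmaCore M ⊓ H = sigmaCore M ⊓ Subgroup.centralizer (E₃ : Set G) ∧
      (∀ e ∈ E, (∀ r : ℕ, r.Prime → r ∣ orderOf e → r ∉ tau1 H) →
        e ∈ Subgroup.centralizer
          ((sigmaCore M ⊓ Subgroup.centralizer (E₃ : Set G) : Subgroup G) : Set G)) ∧
      (∀ e ∈ E, e ∈ ⁅H, H⁆ →
        e ∈ Subgroup.centralizer
          ((sigmaCore M ⊓ Subgroup.centralizer (E₃ : Set G) : Subgroup G) : Set G)) := by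
  classical
  obtain ⟨t, htdef⟩ : ∃ t : ℕ, t = Nat.card X := ⟨_, rfl⟩
  rw [← htdef] at hX ⊢
  have htp : t.Prime := hX
  haveI : Fact t.Prime := ⟨htp⟩
  obtain ⟨-, -, h3⟩ := h1415 M hM E hE
  obtain ⟨hcyc₃, hE₃E', hEN⟩ := h3 E₃ hE₃
  have hXM : X ≤ M := (hXE₃.trans hE₃.1).trans hE.1
  have hX1 : X ≠ ⊥ := by
    intro h
    rw [h, Subgroup.card_bot] at htdef
    exact htp.one_lt.ne' htdef
  have hEH : E ≤ H :=
    (hEN.trans (Cfsg.Agent.Lib.Helper77.normalizer_le_normalizer_of_isCyclic hcyc₃ hXE₃)).trans hNH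
  have htτ : t ∈ tau3 M := hE₃.2.1 t htp (htdef ▸ Subgroup.card_dvd_of_le hXE₃)
  have htM : t ∉ sigma M := htτ.2.1
  have hXt : IsPGroup t X := IsPGroup.of_card (n := 1) (by rw [← htdef, pow_one])
  obtain ⟨S₀, hS₀, hXS⟩ := exists_isSylowIn_ge hXt hXM
  have ht2 : t ≠ 2 := prime_ne_two13 hG (X := X) (by rw [← htdef])
  have hcyc : IsCyclic S₀ := isCyclic_of_pRankLE_one ht2 (sylIn_isPGroup hS₀)
    ((Cfsg.Agent.Lib.Helper24.pRankLE_subgroup_iff t 1 S₀).mpr (fun A hAS hc he =>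
      (Cfsg.Agent.Lib.Helper24.pRankLE_subgroup_iff t 1 M).mp htτ.2.2.2 A (hAS.trans hS₀.1) hc he))
  have hNS : Subgroup.normalizer (S₀ : Set G) ≤ H :=
    (Cfsg.Agent.Lib.Helper77.normalizer_le_normalizer_of_isCyclic hcyc hXS).trans hNH
  have hS₀H : S₀ ≤ H := Subgroup.le_normalizer.trans hNS
  have hS₀1 : S₀ ≠ ⊥ := fun h => hX1 (le_bot_iff.mp (h ▸ hXS))
  -- `H` is not conjugate to `M`
  have hnc : ∀ g : G, H ≠ M.map (MulAut.conj g).toMonoidHom := by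
    intro g hg
    apply htM
    have hS₁ : IsSylowIn t (S₀.map (MulAut.conj g⁻¹).toMonoidHom) M := by
      refine ⟨?_, by rw [card_map_conj]; exact hS₀.2⟩
      have := Subgroup.map_mono (f := (MulAut.conj g⁻¹).toMonoidHom) hS₀H
      rwa [hg, Cfsg.Agent.Lib.Helper35.BG.map_conj_mul, inv_mul_cancel,
        Cfsg.Agent.Lib.Helper35.BG.map_conj_one] at this
    have hS₁1 : S₀.map (MulAut.conj g⁻¹).toMonoidHom ≠ ⊥ := by
      intro h
      apply hS₀1
      have h2 := card_map_conj S₀ g⁻¹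
      rw [h, Subgroup.card_bot] at h2
      exact Subgroup.card_eq_one.mp h2.symm
    refine mem_sigma_of_sylIn hS₁ hS₁1 ?_
    rw [normalizer_map_conj]
    have := Subgroup.map_mono (f := (MulAut.conj g⁻¹).toMonoidHom) hNS
    rwa [hg, Cfsg.Agent.Lib.Helper35.BG.map_conj_mul, inv_mul_cancel,
        Cfsg.Agent.Lib.Helper35.BG.map_conj_one] at this
  -- `t ∈ σ(H) ∪ τ₂(H)`
  have hdich : t ∈ sigma H ∨ t ∈ tau2 H := by
    by_cases hpH : t ∈ sigma H
    · exact Or.inl hpH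
    · refine Or.inr ⟨htp, hpH, ?_, ?_⟩
      · by_contra h
        exact hpH (Cfsg.Agent.Lib.Helper46.BG.mem_sigma_of_mem_alpha hG h1405 hH ⟨htp, h⟩)
      · intro hr1
        obtain ⟨R, hR, hS₀R⟩ := exists_isSylowIn_ge (sylIn_isPGroup hS₀) hS₀H
        have hRr : PRankLE t 1 R :=
          (Cfsg.Agent.Lib.Helper24.pRankLE_subgroup_iff t 1 R).mpr (fun A hAR hc he =>
            (Cfsg.Agent.Lib.Helper24.pRankLE_subgroup_iff t 1 H).mp hr1 A (hAR.trans hR.1) hc he)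
        have hRc : IsCyclic R := isCyclic_of_pRankLE_one ht2 (sylIn_isPGroup hR) hRr
        have h1 := (Cfsg.Agent.Lib.Helper77.normalizer_le_normalizer_of_isCyclic hRc
          (hXS.trans hS₀R)).trans hNH
        have hR1 : R ≠ ⊥ := fun h => hS₀1 (le_bot_iff.mp (h ▸ hS₀R))
        exact hpH (mem_sigma_of_sylIn hR hR1 h1)
  have hcent : ∀ e ∈ E, (∀ r : ℕ, r.Prime → r ∣ orderOf e → r ∉ tau1 H) →
      ∀ c ∈ sigmaCore M ⊓ H, c * e = e * c := by
    intro e he hτ c hc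
    exact comm_of_tau1_free hG h1403 h1404 h1405 h1414 h1415 h1416 h1417 h1423 hM hH hnc hE
      (Subgroup.mem_inf.mp hc).1 (Subgroup.mem_inf.mp hc).2 he (hEH he) hτ
  have hder : ∀ e ∈ E, e ∈ ⁅H, H⁆ → ∀ r : ℕ, r.Prime → r ∣ orderOf e → r ∉ tau1 H := by
    intro e _ heH' r _ hre hτ1
    exact hτ1.2.2.2.1 (hre.trans (Subgroup.orderOf_dvd_natCard _ heH'))
  have hE₃H' : E₃ ≤ ⁅H, H⁆ := hE₃E'.trans (Subgroup.commutator_mono hEH hEH)
  have hinf : sigmaCore M ⊓ H = sigmaCore M ⊓ Subgroup.centralizer (E₃ : Set G) := by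
    apply le_antisymm
    · intro c hc
      obtain ⟨hcσ, hcH⟩ := Subgroup.mem_inf.mp hc
      refine Subgroup.mem_inf.mpr ⟨hcσ, ?_⟩
      rw [Subgroup.mem_centralizer_iff]
      intro e he
      exact (hcent e (hE₃.1 he) (hder e (hE₃.1 he) (hE₃H' he)) c hc).symm
    · intro c hc
      obtain ⟨hcσ, hcE⟩ := Subgroup.mem_inf.mp hc
      exact Subgroup.mem_inf.mpr ⟨hcσ, hNH (centralizer_le_normalizer' X
        (Subgroup.centralizer_le (SetLike.coe_subset_coe.mpr hXE₃) hcE))⟩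
  refine ⟨hEH, hnc, hdich, hinf, ?_, ?_⟩
  · intro e he hτ
    rw [Subgroup.mem_centralizer_iff]
    intro c hc
    rw [← hinf] at hc
    exact hcent e he hτ c hc
  · intro e he heH'
    rw [Subgroup.mem_centralizer_iff]
    intro c hc
    rw [← hinf] at hc
    exact hcent e he (hder e he heH') c hc

/-- **(P1a)** `E₃` acts in a prime manner on `M_σ`: `C_{M_σ}(x) = C_{M_σ}(E₃)` for `x ∈ E₃ \ 1`. -/
theorem tau3_semiprime [Finite G] (hG : IsMinSimpleOddOrder G)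
    (h1403 : type_of% (@Cfsg.CfsgFrozen.S1403 G _ _ hG))
    (h1404 : type_of% (@Cfsg.CfsgFrozen.S1404 G _ _ hG))
    (h1405 : type_of% (@Cfsg.CfsgFrozen.S1405 G _ _ hG))
    (h1414 : type_of% (@Cfsg.CfsgFrozen.S1414 G _ _ hG))
    (h1415 : type_of% (@Cfsg.CfsgFrozen.S1415 G _ _ hG))
    (h1416 : type_of% (@Cfsg.CfsgFrozen.S1416 G _ _ hG))
    (h1417 : type_of% (@Cfsg.CfsgFrozen.S1417 G _ _ hG))
    (h1423 : type_of% (@Cfsg.CfsgFrozen.S1423 G _ _ hG))
    (M : Subgroup G) (hM : IsCoatom M) (E : Subgroup G) (hE : IsComplIn E (sigmaCore M) M)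
    (E₃ : Subgroup G) (hE₃ : IsPiHallOf (tau3 M) E₃ E) :
    ∀ x ∈ E₃, x ≠ 1 → sigmaCore M ⊓ Subgroup.centralizer ({x} : Set G) =
      sigmaCore M ⊓ Subgroup.centralizer (E₃ : Set G) := by
  intro x hx hx1
  apply le_antisymm
  · intro c hc
    obtain ⟨hcσ, hcx⟩ := Subgroup.mem_inf.mp hc
    have hox : orderOf x ≠ 1 := fun h => hx1 (orderOf_eq_one_iff.mp h)
    obtain ⟨t, ht, htx⟩ := Nat.exists_prime_and_dvd hox
    obtain ⟨x₀, hx₀def⟩ : ∃ x₀ : G, x₀ = x ^ (orderOf x / t) := ⟨_, rfl⟩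
    have hx₀o : orderOf x₀ = t := by
      rw [hx₀def]; exact orderOf_pow_orderOf_div (orderOf_pos x).ne' htx
    have hx₀E : x₀ ∈ E₃ := by rw [hx₀def]; exact Subgroup.pow_mem _ hx _
    have hXE : Subgroup.zpowers x₀ ≤ E₃ := (Subgroup.zpowers_le).mpr hx₀E
    have hXcard : Nat.card (Subgroup.zpowers x₀) = t := by rw [Nat.card_zpowers, hx₀o]
    have hX1 : Subgroup.zpowers x₀ ≠ ⊥ := by
      intro h
      rw [h, Subgroup.card_bot] at hXcard
      exact ht.one_lt.ne' hXcard.symm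
    have hXM : Subgroup.zpowers x₀ ≤ M := (hXE.trans hE₃.1).trans hE.1
    have hXtop : Subgroup.zpowers x₀ ≠ ⊤ := fun h => hM.1 (top_le_iff.mp (h ▸ hXM))
    obtain ⟨H, hH, hNH⟩ := exists_coatom_ge (normalizer_ne_top hG hX1 hXtop)
    have hcx' : c ∈ Subgroup.centralizer ((Subgroup.zpowers x₀ : Subgroup G) : Set G) := by
      have h1 : x ∈ Subgroup.centralizer ({c} : Set G) := by
        rw [Subgroup.mem_centralizer_iff]
        intro h hh
        rw [Set.mem_singleton_iff] at hh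
        rw [hh]
        exact (Subgroup.mem_centralizer_iff.mp hcx x (Set.mem_singleton x)).symm
      have h2 : x₀ ∈ Subgroup.centralizer ({c} : Set G) := by
        rw [hx₀def]; exact Subgroup.pow_mem _ h1 _
      have h3 : Subgroup.zpowers x₀ ≤ Subgroup.centralizer ({c} : Set G) :=
        (Subgroup.zpowers_le).mpr h2
      rw [Subgroup.mem_centralizer_iff]
      intro h hh
      exact (Subgroup.mem_centralizer_iff.mp (h3 hh) c (Set.mem_singleton c)).symm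
    obtain ⟨-, -, -, hinf, -, -⟩ := tau3_coatom hG h1403 h1404 h1405 h1414 h1415 h1416 h1417 h1423
      M hM E hE E₃ hE₃ (Subgroup.zpowers x₀) hXE (by rw [hXcard]; exact ht) H hH hNH
    have h5 : c ∈ sigmaCore M ⊓ H :=
      Subgroup.mem_inf.mpr ⟨hcσ, hNH (centralizer_le_normalizer' _ hcx')⟩
    rw [hinf] at h5
    exact h5
  · intro c hc
    obtain ⟨hcσ, hcE⟩ := Subgroup.mem_inf.mp hc
    exact Subgroup.mem_inf.mpr
      ⟨hcσ, Subgroup.centralizer_le (Set.singleton_subset_iff.mpr hx) hcE⟩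

/-- **(P2)** If `E₃ ≠ 1` does not act regularly on `M_σ` (`C_{M_σ}(E₃) ≠ 1`), then
`τ₂(M) = ∅`. -/
theorem tau2_empty [Finite G] (hG : IsMinSimpleOddOrder G)
    (h1403 : type_of% (@Cfsg.CfsgFrozen.S1403 G _ _ hG))
    (h1404 : type_of% (@Cfsg.CfsgFrozen.S1404 G _ _ hG))
    (h1405 : type_of% (@Cfsg.CfsgFrozen.S1405 G _ _ hG))
    (h1414 : type_of% (@Cfsg.CfsgFrozen.S1414 G _ _ hG))
    (h1415 : type_of% (@Cfsg.CfsgFrozen.S1415 G _ _ hG))
    (h1416 : type_of% (@Cfsg.CfsgFrozen.S1416 G _ _ hG))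
    (h1417 : type_of% (@Cfsg.CfsgFrozen.S1417 G _ _ hG))
    (h1423 : type_of% (@Cfsg.CfsgFrozen.S1423 G _ _ hG))
    (M : Subgroup G) (hM : IsCoatom M) (E : Subgroup G) (hE : IsComplIn E (sigmaCore M) M)
    (E₃ : Subgroup G) (hE₃ : IsPiHallOf (tau3 M) E₃ E)
    (hD3 : sigmaCore M ⊓ Subgroup.centralizer (E₃ : Set G) ≠ ⊥) (hE₃ne : E₃ ≠ ⊥) :
    ∀ q : ℕ, q ∉ tau2 M := by
  intro q hq
  have hqp : q.Prime := hq.1
  haveI : Fact q.Prime := ⟨hqp⟩
  obtain ⟨A₀, hA₀M, hA₀, hA₀card⟩ :=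
    Cfsg.Agent.Lib.Helper20.BG.exists_ea_sq M q hq.2.2.1 hq.2.2.2
  have hnd : ¬ q ∣ E.relIndex M := by
    rw [relIndex_left_of_isComplIn hE]
    exact fun h => hq.2.1 (Cfsg.Agent.Lib.Helper67.BG.sigmaCore_isPi M q hqp h)
  obtain ⟨l, -, hAE⟩ := exists_conj_le_of_not_dvd_relIndex (isPGroup_of_ea13 hA₀) hA₀M hE.1 hnd
  obtain ⟨A, hAdef⟩ : ∃ A : Subgroup G, A = A₀.map (MulAut.conj l).toMonoidHom := ⟨_, rfl⟩
  rw [← hAdef] at hAE
  have hA : IsElementaryAbelian q A := by rw [hAdef]; exact ea_map_conj hA₀ l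
  have hAcard : Nat.card A = q ^ 2 := by rw [hAdef, card_map_conj, hA₀card]
  obtain ⟨X, t, ht, hXcard, hXE⟩ := Cfsg.Agent.Lib.Helper27.BG.exists_prime_card_le hE₃ne
  have hX1 : X ≠ ⊥ := by
    intro h
    rw [h, Subgroup.card_bot] at hXcard
    exact ht.one_lt.ne' hXcard.symm
  have hXM : X ≤ M := (hXE.trans hE₃.1).trans hE.1
  have hXtop : X ≠ ⊤ := fun h => hM.1 (top_le_iff.mp (h ▸ hXM))
  obtain ⟨H, hH, hNH⟩ := exists_coatom_ge (normalizer_ne_top hG hX1 hXtop)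
  obtain ⟨hEH, -, -, -, hcen, -⟩ := tau3_coatom hG h1403 h1404 h1405 h1414 h1415 h1416 h1417
    h1423 M hM E hE E₃ hE₃ X hXE (by rw [hXcard]; exact ht) H hH hNH
  have hqH : q ∉ tau1 H := fun h =>
    not_pRankLE_one_of_le hA hAcard (hAE.trans hEH) h.2.2.2.2
  have hAcen : ∀ a ∈ A, a ∈ Subgroup.centralizer
      ((sigmaCore M ⊓ Subgroup.centralizer (E₃ : Set G) : Subgroup G) : Set G) := by
    intro a ha
    apply hcen a (hAE ha)
    intro r hr hra
    have h1 : r ∣ q := hra.trans (orderOf_dvd_of_pow_eq_one (hA.2 a ha))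
    have h2 : r = q := (Nat.prime_dvd_prime_iff_eq hr hqp).mp h1
    rw [h2]; exact hqH
  apply hD3
  rw [eq_bot_iff]
  have h4 := (h1417 M hM q hq A ⟨hAE.trans hE.1, hA, hAcard⟩).2.2.2.1
  rw [← h4]
  intro c hc
  refine Subgroup.mem_inf.mpr ⟨(Subgroup.mem_inf.mp hc).1, ?_⟩
  rw [Subgroup.mem_centralizer_iff]
  intro a ha
  exact (Subgroup.mem_centralizer_iff.mp (hAcen a ha) c hc).symm

end Cfsg.Agent.Lib.Helper97.BG
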