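import Mathlib
import Cfsg.Agent.Lib.Helper97.BG.Tau3Prime

/-!
Complement to `Tau3Prime.lean` (helper97): when `τ₂(M) = ∅`, a complement `E` of `M_σ` in `M`
splits as `E = E₃ ⋊ E₁` for any Hall `τ₃(M)`-subgroup `E₃` and any Hall `τ₁(M)`-subgroup `E₁`
of `E`.

* `mem_tau_of_dvd_card_compl`: a prime dividing `|E|` lies in `τ₁(M) ∪ τ₂(M) ∪ τ₃(M)`.
* `tau3_tau1_split`: `τ₂(M) = ∅` ⟹ `E₃ ⊔ E₁ = E`, `E₃ ⊓ E₁ = ⊥`, `IsComplIn E₃ E₁ E`,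
  `|E₃| * |E₁| = |E|`.
* `tau2_empty_split`: (P2) with the splitting: `E₃ ≠ 1`, `C_{M_σ}(E₃) ≠ 1` ⟹ `τ₂(M) = ∅` and
  `E = E₃ ⋊ E₁`.
-/

set_option autoImplicit false
set_option linter.style.haveILetI false

namespace Cfsg.Agent.Lib.Helper97.BG

open Cfsg Cfsg.Agent.Lib.Helper46 Cfsg.Agent.Lib.Helper35.BG Cfsg.Agent.Lib.Helper13.BG

variable {G : Type*} [Group G]

/-- Product decomposition in `N ⊔ A` when `A` normalizes `N`. -/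
theorem exists_mul_of_mem_sup_normalizer {N A : Subgroup G}
    (hAN : A ≤ Subgroup.normalizer (N : Set G))
    {x : G} (hx : x ∈ N ⊔ A) : ∃ n ∈ N, ∃ a ∈ A, x = n * a := by
  rw [Subgroup.sup_eq_closure_mul] at hx
  induction hx using Subgroup.closure_induction with
  | mem x hx =>
    obtain ⟨n, hn, a, ha, rfl⟩ := Set.mem_mul.mp hx
    exact ⟨n, hn, a, ha, rfl⟩
  | one => exact ⟨1, N.one_mem, 1, A.one_mem, by simp⟩
  | mul x y _ _ ihx ihy =>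
    obtain ⟨n₁, hn₁, a₁, ha₁, rfl⟩ := ihx
    obtain ⟨n₂, hn₂, a₂, ha₂, rfl⟩ := ihy
    exact ⟨n₁ * (a₁ * n₂ * a₁⁻¹),
      N.mul_mem hn₁ ((Subgroup.mem_normalizer_iff.mp (hAN ha₁) n₂).mp hn₂), a₁ * a₂,
      A.mul_mem ha₁ ha₂, by group⟩
  | inv x _ ih =>
    obtain ⟨n, hn, a, ha, rfl⟩ := ih
    refine ⟨a⁻¹ * n⁻¹ * a⁻¹⁻¹, ?_, a⁻¹, A.inv_mem ha, by group⟩
    exact (Subgroup.mem_normalizer_iff.mp (hAN (A.inv_mem ha)) n⁻¹).mp (N.inv_mem hn)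

/-- A prime dividing the order of a complement `E` of `M_σ` lies in `τ₁(M) ∪ τ₂(M) ∪ τ₃(M)`. -/
theorem mem_tau_of_dvd_card_compl [Finite G] (hG : IsMinSimpleOddOrder G)
    (h1404 : type_of% (@Cfsg.CfsgFrozen.S1404 G _ _ hG))
    (h1405 : type_of% (@Cfsg.CfsgFrozen.S1405 G _ _ hG))
    {M : Subgroup G} (hM : IsCoatom M) {E : Subgroup G} (hE : IsComplIn E (sigmaCore M) M)
    {p : ℕ} (hp : p.Prime) (hdvd : p ∣ Nat.card E) :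
    p ∈ tau1 M ∨ p ∈ tau2 M ∨ p ∈ tau3 M := by
  have hHall := (Cfsg.Agent.Lib.Helper66.BG.s1350_core hG h1404 h1405 M hM).1
  have hσ : p ∉ sigma M := by
    intro hσ
    have h1 := hHall.2.2 p hp hσ
    rw [relIndex_right_of_isComplIn hE] at h1
    exact h1 hdvd
  have hdvdM : p ∣ Nat.card M := hdvd.trans (Subgroup.card_dvd_of_le hE.1)
  have h2 : PRankLE p 2 M := by
    by_contra h
    exact hσ (Cfsg.Agent.Lib.Helper46.BG.mem_sigma_of_mem_alpha hG h1405 hM ⟨hp, h⟩)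
  by_cases h1 : PRankLE p 1 M
  · by_cases hd : p ∣ Nat.card ↥⁅M, M⁆
    · exact Or.inr (Or.inr ⟨hp, hσ, hd, h1⟩)
    · exact Or.inl ⟨hp, hσ, hdvdM, hd, h1⟩
  · exact Or.inr (Or.inl ⟨hp, hσ, h2, h1⟩)

/-- If `τ₂(M) = ∅` then `E = E₃ ⋊ E₁`. -/
theorem tau3_tau1_split [Finite G] (hG : IsMinSimpleOddOrder G)
    (h1404 : type_of% (@Cfsg.CfsgFrozen.S1404 G _ _ hG))
    (h1405 : type_of% (@Cfsg.CfsgFrozen.S1405 G _ _ hG))
    (h1415 : type_of% (@Cfsg.CfsgFrozen.S1415 G _ _ hG))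
    (M : Subgroup G) (hM : IsCoatom M) (E : Subgroup G) (hE : IsComplIn E (sigmaCore M) M)
    (hτ2 : ∀ q : ℕ, q ∉ tau2 M)
    (E₃ : Subgroup G) (hE₃ : IsPiHallOf (tau3 M) E₃ E)
    (E₁ : Subgroup G) (hE₁ : IsPiHallOf (tau1 M) E₁ E) :
    E₃ ⊔ E₁ = E ∧ E₃ ⊓ E₁ = ⊥ ∧ IsComplIn E₃ E₁ E ∧
      Nat.card E₃ * Nat.card E₁ = Nat.card E := by
  obtain ⟨-, -, h3⟩ := h1415 M hM E hE
  obtain ⟨-, -, hEN⟩ := h3 E₃ hE₃
  have hsup : E₃ ⊔ E₁ = E := by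
    apply le_antisymm (sup_le hE₃.1 hE₁.1)
    rw [← Subgroup.relIndex_eq_one, Nat.eq_one_iff_not_exists_prime_dvd]
    intro p hp hdvd
    have hpE : p ∣ Nat.card E := hdvd.trans (Subgroup.relIndex_dvd_card _ _)
    rcases mem_tau_of_dvd_card_compl hG h1404 h1405 hM hE hp hpE with h | h | h
    · exact hE₁.2.2 p hp h (hdvd.trans (Subgroup.relIndex_dvd_of_le_left E le_sup_right))
    · exact hτ2 p h
    · exact hE₃.2.2 p hp h (hdvd.trans (Subgroup.relIndex_dvd_of_le_left E le_sup_left))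
  have hinf : E₃ ⊓ E₁ = ⊥ := by
    apply Subgroup.eq_bot_of_card_eq
    rw [Nat.eq_one_iff_not_exists_prime_dvd]
    intro p hp hdvd
    have h3' : p ∈ tau3 M := hE₃.2.1 p hp (hdvd.trans (Subgroup.card_dvd_of_le inf_le_left))
    have h1' : p ∈ tau1 M := hE₁.2.1 p hp (hdvd.trans (Subgroup.card_dvd_of_le inf_le_right))
    exact h1'.2.2.2.1 h3'.2.2.1
  have hcompl : IsComplIn E₃ E₁ E := by
    refine ⟨hE₃.1, hE₁.1, hinf, ?_⟩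
    intro m hm
    rw [← hsup] at hm
    exact exists_mul_of_mem_sup_normalizer (hE₁.1.trans hEN) hm
  exact ⟨hsup, hinf, hcompl, (Cfsg.Agent.Lib.Helper23.card_of_isComplIn hcompl).symm⟩

/-- **(P2) with the splitting.** If `E₃ ≠ 1` and `C_{M_σ}(E₃) ≠ 1`, then `τ₂(M) = ∅` and
`E = E₃ ⋊ E₁` for every Hall `τ₁(M)`-subgroup `E₁` of `E`. -/
theorem tau2_empty_split [Finite G] (hG : IsMinSimpleOddOrder G)
    (h1403 : type_of% (@Cfsg.CfsgFrozen.S1403 G _ _ hG))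
    (h1404 : type_of% (@Cfsg.CfsgFrozen.S1404 G _ _ hG))
    (h1405 : type_of% (@Cfsg.CfsgFrozen.S1405 G _ _ hG))
    (h1414 : type_of% (@Cfsg.CfsgFrozen.S1414 G _ _ hG))
    (h1415 : type_of% (@Cfsg.CfsgFrozen.S1415 G _ _ hG))
    (h1416 : type_of% (@Cfsg.CfsgFrozen.S1416 G _ _ hG))
    (h1417 : type_of% (@Cfsg.CfsgFrozen.S1417 G _ _ hG))
    (h1423 : type_of% (@Cfsg.CfsgFrozen.S1423 G _ _ hG))
    (M : Subgroup G) (hM : IsCoatom M) (E : Subgroup G) (hE : IsComplIn E (sigmaCore M) M)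
    (E₃ : Subgroup G) (hE₃ : IsPiHallOf (tau3 M) E₃ E)
    (hD3 : sigmaCore M ⊓ Subgroup.centralizer (E₃ : Set G) ≠ ⊥) (hE₃ne : E₃ ≠ ⊥) :
    (∀ q : ℕ, q ∉ tau2 M) ∧ ∀ E₁ : Subgroup G, IsPiHallOf (tau1 M) E₁ E →
      E₃ ⊔ E₁ = E ∧ E₃ ⊓ E₁ = ⊥ ∧ IsComplIn E₃ E₁ E ∧
        Nat.card E₃ * Nat.card E₁ = Nat.card E := by
  have hτ2 := tau2_empty hG h1403 h1404 h1405 h1414 h1415 h1416 h1417 h1423 M hM E hE E₃ hE₃
    hD3 hE₃ne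
  exact ⟨hτ2, fun E₁ hE₁ => tau3_tau1_split hG h1404 h1405 h1415 M hM E hE hτ2 E₃ hE₃ E₁ hE₁⟩

end Cfsg.Agent.Lib.Helper97.BG
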