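import Mathlib
import Cfsg.Statements.S1418
import Cfsg.Statements.S1420
import Cfsg.Statements.S1427
import Cfsg.Statements.S1428
import Cfsg.Agent.Lib.Helper97.BG.Tau3Split
import Cfsg.Agent.Lib.Helper15.BG.Signalizer
import Cfsg.Agent.Lib.Helper85.BG.Tau1Semiprime
import Cfsg.Agent.Lib.Helper85.BG.S1430Kappa
import Cfsg.Agent.Lib.Helper74.BG.Tools
import Cfsg.Agent.Lib.Helper25.BG.S1430Defs
import Cfsg.Agent.Lib.Helper76.BG.S1420Core

/-!
Bender–Glauberman 13.11 = part (P4) of helper34's paper proof (note 2134), helper97.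

Setting: `M` maximal, `E` a complement of `M_σ`, `E₃ ≠ 1` a Hall `τ₃(M)`-subgroup of `E` with
`D₃ = C_{M_σ}(E₃) ≠ 1`.  Black boxes (explicit hypotheses):

* `hSigma`: the σ-partition (second conjunct of S1378);
* `hP3`: B&G 13.10(b) for all maximal subgroups: a subgroup of prime order of `E` that does not
  centralize `E₃` forces `C_{M_σ}(E₃) = 1`.

Results:

* `comm_of_tau2_commutator` (step A): `H` not conjugate to `M`, `t ∈ τ₂(H)`, `M` of `t`-rank one,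
  `X ≤ M ∩ H` of order `t`, `d ∈ M_σ ∩ H`, `ρ` a `p`-element of `M ∩ H`, `p ∉ σ(H)`, and
  `[d, ρ]` centralizes `X`: then `[d, ρ] = 1`.
* `mem_tau3_of_dvd_orderOf` (step B): primes of `o(y)`, `y ∈ M_σ ∩ H'`, lie in `τ₃(H)`.
* `p4_centralizes` ((P4)(c)): `D₃` centralizes every subgroup of prime order of `E`.
* `hyp1311_of_p3`: helper25's black box `Hyp1311 G`.
-/

set_option autoImplicit false
set_option linter.style.haveILetI false

namespace Cfsg.Agent.Lib.Helper97.BG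

open Cfsg Cfsg.Agent.Lib.Helper46 Cfsg.Agent.Lib.Helper35.BG Cfsg.Agent.Lib.Helper13.BG

variable {G : Type*} [Group G]

/-- **Step A.** -/
theorem comm_of_tau2_commutator [Finite G] (hG : IsMinSimpleOddOrder G)
    (h1403 : type_of% (@Cfsg.CfsgFrozen.S1403 G _ _ hG))
    (h1404 : type_of% (@Cfsg.CfsgFrozen.S1404 G _ _ hG))
    (h1405 : type_of% (@Cfsg.CfsgFrozen.S1405 G _ _ hG))
    (h1414 : type_of% (@Cfsg.CfsgFrozen.S1414 G _ _ hG))
    (h1416 : type_of% (@Cfsg.CfsgFrozen.S1416 G _ _ hG))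
    (h1417 : type_of% (@Cfsg.CfsgFrozen.S1417 G _ _ hG))
    (h1418 : type_of% (@Cfsg.CfsgFrozen.S1418 G _ _ hG))
    {M H : Subgroup G} (hM : IsCoatom M) (hH : IsCoatom H)
    (hnc : ∀ g : G, H ≠ M.map (MulAut.conj g).toMonoidHom)
    {t : ℕ} [Fact t.Prime] (htM : t ∉ sigma M) (hrM : PRankLE t 1 M) (htH : t ∈ tau2 H)
    {X : Subgroup G} (hX : Nat.card X = t) (hXM : X ≤ M)
    {p : ℕ} [Fact p.Prime] (hpH : p ∉ sigma H)
    {d ρ : G} (hd : d ∈ sigmaCore M) (hdH : d ∈ H) (hρM : ρ ∈ M) (hρH : ρ ∈ H)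
    {k : ℕ} (hρ : ρ ^ p ^ k = 1)
    (hyX : d * ρ * d⁻¹ * ρ⁻¹ ∈ Subgroup.centralizer (X : Set G)) : d * ρ = ρ * d := by
  classical
  by_contra hne
  have htp : t.Prime := Fact.out
  obtain ⟨y, hydef⟩ : ∃ y : G, y = d * ρ * d⁻¹ * ρ⁻¹ := ⟨_, rfl⟩
  rw [← hydef] at hyX
  have hy1 : y ≠ 1 := by
    intro h
    apply hne
    have : d * ρ = (d * ρ * d⁻¹ * ρ⁻¹) * (ρ * d) := by group
    rw [this, ← hydef, h, one_mul]
  have hyσ : y ∈ sigmaCore M := by rw [hydef]; exact comm_mem_sigmaCore hd hρM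
  -- `H_σ` is nilpotent, so `σ(M) ∩ σ(H) = ∅`
  obtain ⟨A₀, hA₀H, hA₀, hA₀card⟩ :=
    Cfsg.Agent.Lib.Helper20.BG.exists_ea_sq H t htH.2.2.1 htH.2.2.2
  obtain ⟨hnilH, -⟩ := h1417 H hH t htH A₀ ⟨hA₀H, hA₀, hA₀card⟩
  have hdisj : ∀ r : ℕ, r ∈ sigma H → r ∈ sigma M → False := fun r h1 h2 =>
    sigma_disjoint_of_nilpotent hG h1404 h1405 hM hH hnc hnilH h1 h2
  -- the subgroup `W`
  obtain ⟨W, hWdef⟩ : ∃ W : Subgroup G, W = (sigmaCore M ⊔ Subgroup.zpowers ρ) ⊓ H := ⟨_, rfl⟩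
  have hdW : d ∈ W := by
    rw [hWdef]; exact ⟨Subgroup.mem_sup_left hd, hdH⟩
  have hρW : ρ ∈ W := by
    rw [hWdef]; exact ⟨Subgroup.mem_sup_right (Subgroup.mem_zpowers ρ), hρH⟩
  have hWH : W ≤ H := by rw [hWdef]; exact inf_le_right
  have hWσ : ∀ r : ℕ, r.Prime → r ∣ Nat.card W → r ∉ sigma H := by
    intro r hr hr1 hrH
    have h0 : Nat.card W ∣ Nat.card (sigmaCore M ⊔ Subgroup.zpowers ρ : Subgroup G) := by
      rw [hWdef]; exact Subgroup.card_dvd_of_le inf_le_left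
    have h1 : r ∣ Nat.card (Subgroup.zpowers ρ) * Nat.card (sigmaCore M) := by
      have h3 := card_sup_sigmaCore_dvd (K := Subgroup.zpowers ρ) (M := M)
        ((Subgroup.zpowers_le).mpr hρM)
      rw [sup_comm] at h3
      exact (hr1.trans h0).trans h3
    rcases (Nat.Prime.dvd_mul hr).mp h1 with h2 | h2
    · have : r = p := Cfsg.Agent.Lib.Helper67.BG.prime_eq_of_dvd_card_isPGroup
        (isPGroup_zpowers13 hρ) hr h2
      exact hpH (this ▸ hrH)
    · exact hdisj r hrH (Cfsg.Agent.Lib.Helper67.BG.sigmaCore_isPi M r hr h2)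
  -- a complement `E_H ⊇ W` of `H_σ`
  have hHallH := (Cfsg.Agent.Lib.Helper66.BG.s1350_core hG h1404 h1405 H hH).1
  obtain ⟨EH, hEH, hWE⟩ := Cfsg.Agent.Lib.Helper76.BG.exists_compl_ge hG H hH hHallH W hWH hWσ
  -- `A ≤ E_H` elementary abelian of order `t ^ 2`
  have hnd : ¬ t ∣ EH.relIndex H := by
    rw [relIndex_left_of_isComplIn hEH]
    exact fun h => htH.2.1 (Cfsg.Agent.Lib.Helper67.BG.sigmaCore_isPi H t htp h)
  obtain ⟨l, -, hAE⟩ := exists_conj_le_of_not_dvd_relIndex (isPGroup_of_ea13 hA₀) hA₀H hEH.1 hnd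
  obtain ⟨A, hAdef⟩ : ∃ A : Subgroup G, A = A₀.map (MulAut.conj l).toMonoidHom := ⟨_, rfl⟩
  rw [← hAdef] at hAE
  have hA : IsElementaryAbelian t A := by rw [hAdef]; exact ea_map_conj hA₀ l
  have hAcard : Nat.card A = t ^ 2 := by rw [hAdef, card_map_conj, hA₀card]
  have hAH : A ≤ H := hAE.trans hEH.1
  obtain ⟨⟨hEN, -⟩, -, -⟩ := h1418 H hH EH hEH t htH A ⟨hAE, hA, hAcard⟩
  -- `y` centralizes `A`
  have hyA : y ∈ Subgroup.centralizer (A : Set G) := by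
    have hA1 : A ≠ ⊥ := by
      intro h
      rw [h, Subgroup.card_bot] at hAcard
      have := htp.one_lt
      nlinarith
    have hAtop : A ≠ ⊤ := fun h => hH.1 (top_le_iff.mp (h ▸ hAH))
    have hNtop := normalizer_ne_top hG hA1 hAtop
    have ht2 : t ≠ 2 := prime_ne_two13 hG (X := X) (by rw [hX])
    apply Cfsg.Agent.Lib.Helper15.BG.comm_normalizer_centralizes t ht2 A (isPGroup_of_ea13 hA)
      (isSolvable_of_ne_top hG hNtop) (odd_card_subgroup hG _) A le_rfl hA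
      (fun B hBA _ _ => by
        rw [← hAcard]; exact Nat.le_of_dvd Nat.card_pos (Subgroup.card_dvd_of_le hBA)) y
    · rw [hydef]
      have := Subgroup.commutator_mem_commutator (hEN (hWE hdW)) (hEN (hWE hρW))
      rwa [commutatorElement_def] at this
    · exact orderOf_coprime_of_mem_sigmaCore htM hyσ
  -- an element `z` of prime order `q` in `⟨y⟩`
  obtain ⟨q, hq, hqy⟩ := Nat.exists_prime_and_dvd (fun h => hy1 (orderOf_eq_one_iff.mp h))
  haveI : Fact q.Prime := ⟨hq⟩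
  obtain ⟨z, hzdef⟩ : ∃ z : G, z = y ^ (orderOf y / q) := ⟨_, rfl⟩
  have hzo : orderOf z = q := by
    rw [hzdef]; exact orderOf_pow_orderOf_div (orderOf_pos y).ne' hqy
  have hzσ : z ∈ sigmaCore M := by rw [hzdef]; exact Subgroup.pow_mem _ hyσ _
  have hqσ : q ∈ sigma M := mem_sigma_of_dvd_orderOf hq hzσ (hzo ▸ dvd_rfl)
  have hpq : t ≠ q := fun h => htM (h ▸ hqσ)
  obtain ⟨Z, hZdef⟩ : ∃ Z : Subgroup G, Z = Subgroup.zpowers z := ⟨_, rfl⟩
  have hZcard : Nat.card Z = q := by rw [hZdef, Nat.card_zpowers, hzo]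
  have hZq : IsPGroup q Z := IsPGroup.of_card (n := 1) (by rw [hZcard, pow_one])
  have hZ1 : Z ≠ ⊥ := by
    intro h
    rw [h, Subgroup.card_bot] at hZcard
    exact hq.one_lt.ne' hZcard.symm
  have hZM : Z ≤ M := by
    rw [hZdef, Subgroup.zpowers_le]
    exact Cfsg.Agent.Lib.Helper67.BG.sigmaCore_le M hzσ
  have hZtop : Z ≠ ⊤ := fun h => hM.1 (top_le_iff.mp (h ▸ hZM))
  have hA₁Z : A ≤ Subgroup.centralizer (Z : Set G) := by
    have hz : z ∈ Subgroup.centralizer (A : Set G) := by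
      rw [hzdef]; exact Subgroup.pow_mem _ hyA _
    apply Subgroup.le_centralizer_iff.mp
    rw [hZdef, Subgroup.zpowers_le]; exact hz
  have hXZ : X ≤ Subgroup.centralizer (Z : Set G) := by
    have hz : z ∈ Subgroup.centralizer (X : Set G) := by
      rw [hzdef]; exact Subgroup.pow_mem _ hyX _
    apply Subgroup.le_centralizer_iff.mp
    rw [hZdef, Subgroup.zpowers_le]; exact hz
  obtain ⟨L, hL, hNZL⟩ := exists_coatom_ge (normalizer_ne_top hG hZ1 hZtop)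
  have hA₁L : A ≤ L := (hA₁Z.trans (centralizer_le_normalizer' Z)).trans hNZL
  have hXL : X ≤ L := (hXZ.trans (centralizer_le_normalizer' Z)).trans hNZL
  have hZL : Z ≤ L := Subgroup.le_normalizer.trans hNZL
  have hLM : L ≠ M := by
    intro h
    exact not_le_of_pRankLE_one hrM hA hAcard (h ▸ hA₁L)
  -- a Sylow `q`-subgroup of `M ∩ L` containing `Z`
  obtain ⟨T0, hT0⟩ := (hZq.comap_subtype (K := M ⊓ L)).exists_le_sylow
  have hZT : Z ≤ (T0 : Subgroup ↥(M ⊓ L)).map (M ⊓ L).subtype := by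
    intro x hx
    exact ⟨⟨x, ⟨hZM hx, hZL hx⟩⟩, hT0 (Subgroup.mem_subgroupOf.mpr hx), rfl⟩
  obtain ⟨-, hNT, hTidx⟩ := Cfsg.Agent.Lib.Helper2.BG.s1424_core hG h1404 h1416 M hM q hqσ Z hZq
    hZ1 hZM L hL hLM hNZL T0 hZT
  obtain ⟨T, hTdef⟩ : ∃ T : Subgroup G, T = (T0 : Subgroup ↥(M ⊓ L)).map (M ⊓ L).subtype :=
    ⟨_, rfl⟩
  rw [← hTdef] at hZT hNT hTidx
  have hTML : T ≤ M ⊓ L := by rw [hTdef]; exact Subgroup.map_subtype_le _
  have hTq : IsPGroup q T := by rw [hTdef]; exact T0.isPGroup'.map _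
  have hTsyl : IsSylowIn q T L :=
    isSylowIn_of_not_dvd_relIndex hTq (hTML.trans inf_le_right) hTidx
  have hpni : ¬ IsIdealPrime t G :=
    (Cfsg.Agent.Lib.Helper20.BG.s1408_core hG h1403 H hH t htH.2.1 htH.2.2.1 htH.2.2.2).1
  by_cases hqL : q ∈ sigma L
  · exact false_of_sigma_L hG h1403 h1404 h1414 hM hL hLM hrM hpni hA₁L hA hAcard hTsyl
      (hTML.trans inf_le_left) hNT hqL
  · exact false_of_not_sigma_L hG h1404 h1405 h1416 h1417 hM hL hLM hpq hrM hA₁L hA hAcard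
      hTsyl (hTML.trans inf_le_left) hNT hZT hZ1 hNZL hXM hXL hX hqL

/-- **Step B.** `H` not conjugate to `M`, `X ≠ 1` a subgroup of `H_σ` centralized by `M_σ ∩ H`.
Then every prime divisor of the order of an element `y ∈ M_σ ∩ H'` lies in `τ₃(H)`. -/
theorem mem_tau3_of_dvd_orderOf [Finite G] (hG : IsMinSimpleOddOrder G)
    (h1404 : type_of% (@Cfsg.CfsgFrozen.S1404 G _ _ hG))
    (h1405 : type_of% (@Cfsg.CfsgFrozen.S1405 G _ _ hG))
    (h1416 : type_of% (@Cfsg.CfsgFrozen.S1416 G _ _ hG))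
    (h1417 : type_of% (@Cfsg.CfsgFrozen.S1417 G _ _ hG))
    (h1420 : type_of% (@Cfsg.CfsgFrozen.S1420 G _ _ hG))
    (hSigma : ∀ M N : Subgroup G, IsCoatom M → IsCoatom N → (sigma M ∩ sigma N).Nonempty →
      ∃ g : G, N = M.map (MulAut.conj g).toMonoidHom)
    {M H : Subgroup G} (hM : IsCoatom M) (hH : IsCoatom H)
    (hnc : ∀ g : G, H ≠ M.map (MulAut.conj g).toMonoidHom)
    {X : Subgroup G} (hX1 : X ≠ ⊥) (hXσ : X ≤ sigmaCore H)
    (hcen : sigmaCore M ⊓ H ≤ Subgroup.centralizer (X : Set G))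
    {y : G} (hyσ : y ∈ sigmaCore M) (hyH' : y ∈ ⁅H, H⁆)
    {q : ℕ} (hq : q.Prime) (hqy : q ∣ orderOf y) : q ∈ tau3 H := by
  classical
  haveI : Fact q.Prime := ⟨hq⟩
  have hHM : H ≠ M := by
    intro h
    exact hnc 1 (by rw [Cfsg.Agent.Lib.Helper35.BG.map_conj_one]; exact h)
  have hH'H : ⁅H, H⁆ ≤ H := by
    rw [Subgroup.commutator_le]
    intro a ha b hb
    rw [commutatorElement_def]
    exact H.mul_mem (H.mul_mem (H.mul_mem ha hb) (H.inv_mem ha)) (H.inv_mem hb)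
  obtain ⟨z, hzdef⟩ : ∃ z : G, z = y ^ (orderOf y / q) := ⟨_, rfl⟩
  have hzo : orderOf z = q := by
    rw [hzdef]; exact orderOf_pow_orderOf_div (orderOf_pos y).ne' hqy
  have hzσ : z ∈ sigmaCore M := by rw [hzdef]; exact Subgroup.pow_mem _ hyσ _
  have hzH' : z ∈ ⁅H, H⁆ := by rw [hzdef]; exact Subgroup.pow_mem _ hyH' _
  have hzH : z ∈ H := hH'H hzH'
  have hz1 : z ≠ 1 := by
    intro h
    rw [h, orderOf_one] at hzo
    exact hq.one_lt.ne' hzo.symm
  have hqM : q ∈ sigma M := mem_sigma_of_dvd_orderOf hq hzσ (hzo ▸ dvd_rfl)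
  have hqH : q ∉ sigma H := by
    intro h
    obtain ⟨g, hg⟩ := hSigma M H hM hH ⟨q, hqM, h⟩
    exact hnc g hg
  have hdvd : q ∣ Nat.card ↥⁅H, H⁆ := by
    have := Subgroup.orderOf_dvd_natCard _ hzH'
    rwa [hzo] at this
  have h2 : PRankLE q 2 H := by
    by_contra h
    exact hqH (Cfsg.Agent.Lib.Helper46.BG.mem_sigma_of_mem_alpha hG h1405 hH ⟨hq, h⟩)
  refine ⟨hq, hqH, hdvd, ?_⟩
  by_contra h1
  have hτ2 : q ∈ tau2 H := ⟨hq, hqH, h2, h1⟩
  -- `z ∈ Ĥ_σ`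
  obtain ⟨x, hx, hx1⟩ : ∃ x ∈ X, x ≠ 1 := by
    by_contra hcon
    apply hX1
    rw [Subgroup.eq_bot_iff_forall]
    intro x hx
    by_contra hx1
    exact hcon ⟨x, hx, hx1⟩
  have hzX : z ∈ Subgroup.centralizer (X : Set G) := hcen (Subgroup.mem_inf.mpr ⟨hzσ, hzH⟩)
  have hzhat : z ∈ sigmaHat H :=
    ⟨hzH, x, hXσ hx, hx1, (Subgroup.mem_centralizer_iff.mp hzX x hx).symm⟩
  -- a complement of `H_σ` (only needed to quote S1420)
  have hHallH := (Cfsg.Agent.Lib.Helper66.BG.s1350_core hG h1404 h1405 H hH).1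
  have hHallM := (Cfsg.Agent.Lib.Helper66.BG.s1350_core hG h1404 h1405 M hM).1
  obtain ⟨EH, hEH, -⟩ := Cfsg.Agent.Lib.Helper76.BG.exists_compl_ge hG H hH hHallH ⊥ bot_le
    (fun r hr hdvd => by
      rw [Subgroup.card_bot] at hdvd
      exact absurd (Nat.dvd_one.mp hdvd) hr.one_lt.ne')
  obtain ⟨-, hu⟩ := (h1420 H hH EH hEH).2.2.2 z hzH hz1 (fun r hr hrz => by
    rw [hzo] at hrz
    rw [(Nat.prime_dvd_prime_iff_eq hr hq).mp hrz]; exact hτ2) hzhat
  -- `N(Y) ≤ H` for `Y = ⟨z⟩`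
  obtain ⟨Y, hYdef⟩ : ∃ Y : Subgroup G, Y = Subgroup.zpowers z := ⟨_, rfl⟩
  have hYcard : Nat.card Y = q := by rw [hYdef, Nat.card_zpowers, hzo]
  have hYq : IsPGroup q Y := IsPGroup.of_card (n := 1) (by rw [hYcard, pow_one])
  have hY1 : Y ≠ ⊥ := by
    intro h
    rw [h, Subgroup.card_bot] at hYcard
    exact hq.one_lt.ne' hYcard.symm
  have hYM : Y ≤ M := by
    rw [hYdef, Subgroup.zpowers_le]
    exact Cfsg.Agent.Lib.Helper67.BG.sigmaCore_le M hzσ
  have hYH : Y ≤ H := by rw [hYdef, Subgroup.zpowers_le]; exact hzH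
  have hYtop : Y ≠ ⊤ := fun h => hM.1 (top_le_iff.mp (h ▸ hYM))
  obtain ⟨L, hL, hNYL⟩ := exists_coatom_ge (normalizer_ne_top hG hY1 hYtop)
  have hLH : L = H := by
    apply hu L hL
    rw [← Cfsg.Agent.Lib.Helper85.BG.centralizer_zpowers_eq_singleton, ← hYdef]
    exact (centralizer_le_normalizer' Y).trans hNYL
  rw [hLH] at hNYL
  -- a Sylow `q`-subgroup of `M ∩ H` containing `Y` is a Sylow `q`-subgroup of `H`
  obtain ⟨T0, hT0⟩ := (hYq.comap_subtype (K := M ⊓ H)).exists_le_sylow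
  have hYT : Y ≤ (T0 : Subgroup ↥(M ⊓ H)).map (M ⊓ H).subtype := by
    intro x hx
    exact ⟨⟨x, ⟨hYM hx, hYH hx⟩⟩, hT0 (Subgroup.mem_subgroupOf.mpr hx), rfl⟩
  obtain ⟨-, -, hTidx⟩ := Cfsg.Agent.Lib.Helper2.BG.s1424_core hG h1404 h1416 M hM q hqM Y hYq
    hY1 hYM H hH hHM hNYL T0 hYT
  obtain ⟨T, hTdef⟩ : ∃ T : Subgroup G, T = (T0 : Subgroup ↥(M ⊓ H)).map (M ⊓ H).subtype :=
    ⟨_, rfl⟩
  rw [← hTdef] at hTidx
  have hTMH : T ≤ M ⊓ H := by rw [hTdef]; exact Subgroup.map_subtype_le _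
  have hTq : IsPGroup q T := by rw [hTdef]; exact T0.isPGroup'.map _
  have hTσ : T ≤ sigmaCore M :=
    Cfsg.Agent.Lib.Helper74.BG.le_of_isPiHallOf_of_normal hHallM
      (Cfsg.Agent.Lib.Helper67.BG.sigmaCore_normalizer M) (hTMH.trans inf_le_left)
      (fun r hr hdvd => by
        rw [Cfsg.Agent.Lib.Helper67.BG.prime_eq_of_dvd_card_isPGroup hTq hr hdvd]; exact hqM)
  have hTX : T ≤ Subgroup.centralizer (X : Set G) :=
    (le_inf hTσ (hTMH.trans inf_le_right)).trans hcen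
  -- an elementary abelian subgroup of order `q ^ 2` inside `T`
  obtain ⟨A₀, hA₀H, hA₀, hA₀card⟩ := Cfsg.Agent.Lib.Helper20.BG.exists_ea_sq H q h2 h1
  obtain ⟨l, -, hAT⟩ := exists_conj_le_of_not_dvd_relIndex (isPGroup_of_ea13 hA₀) hA₀H
    (hTMH.trans inf_le_right) hTidx
  obtain ⟨A, hAdef⟩ : ∃ A : Subgroup G, A = A₀.map (MulAut.conj l).toMonoidHom := ⟨_, rfl⟩
  rw [← hAdef] at hAT
  have hA : IsElementaryAbelian q A := by rw [hAdef]; exact ea_map_conj hA₀ l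
  have hAcard : Nat.card A = q ^ 2 := by rw [hAdef, card_map_conj, hA₀card]
  have h4 := (h1417 H hH q hτ2 A ⟨hAT.trans (hTMH.trans inf_le_right), hA, hAcard⟩).2.2.2.1
  have hXA : X ≤ sigmaCore H ⊓ Subgroup.centralizer (A : Set G) :=
    le_inf hXσ (Subgroup.le_centralizer_iff.mp (hAT.trans hTX))
  rw [h4] at hXA
  exact hX1 (le_bot_iff.mp hXA)

/-- A non-trivial subgroup has a non-identity element. -/
theorem exists_mem_ne_one_of_ne_bot {X : Subgroup G} (hX1 : X ≠ ⊥) : ∃ x ∈ X, x ≠ 1 := by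
  by_contra hcon
  apply hX1
  rw [Subgroup.eq_bot_iff_forall]
  intro x hx
  by_contra hx1
  exact hcon ⟨x, hx, hx1⟩

/-- **(P4)(c).** If `E₃ ≠ 1` then `D₃ = C_{M_σ}(E₃)` centralizes every subgroup of prime order of
`E` (given the σ-partition and B&G 13.10(b) for all maximal subgroups). -/
theorem p4_centralizes [Finite G] (hG : IsMinSimpleOddOrder G)
    (h1403 : type_of% (@Cfsg.CfsgFrozen.S1403 G _ _ hG))
    (h1404 : type_of% (@Cfsg.CfsgFrozen.S1404 G _ _ hG))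
    (h1405 : type_of% (@Cfsg.CfsgFrozen.S1405 G _ _ hG))
    (h1414 : type_of% (@Cfsg.CfsgFrozen.S1414 G _ _ hG))
    (h1415 : type_of% (@Cfsg.CfsgFrozen.S1415 G _ _ hG))
    (h1416 : type_of% (@Cfsg.CfsgFrozen.S1416 G _ _ hG))
    (h1417 : type_of% (@Cfsg.CfsgFrozen.S1417 G _ _ hG))
    (h1418 : type_of% (@Cfsg.CfsgFrozen.S1418 G _ _ hG))
    (h1420 : type_of% (@Cfsg.CfsgFrozen.S1420 G _ _ hG))
    (h1423 : type_of% (@Cfsg.CfsgFrozen.S1423 G _ _ hG))
    (hSigma : ∀ M N : Subgroup G, IsCoatom M → IsCoatom N → (sigma M ∩ sigma N).Nonempty →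
      ∃ g : G, N = M.map (MulAut.conj g).toMonoidHom)
    (hP3 : ∀ M : Subgroup G, IsCoatom M → ∀ E : Subgroup G, IsComplIn E (sigmaCore M) M →
      ∀ E₃ : Subgroup G, IsPiHallOf (tau3 M) E₃ E → ∀ P : Subgroup G, P ≤ E →
        (Nat.card P).Prime → ¬ P ≤ Subgroup.centralizer (E₃ : Set G) →
        sigmaCore M ⊓ Subgroup.centralizer (E₃ : Set G) = ⊥)
    (M : Subgroup G) (hM : IsCoatom M) (E : Subgroup G) (hE : IsComplIn E (sigmaCore M) M)
    (E₃ : Subgroup G) (hE₃ : IsPiHallOf (tau3 M) E₃ E) (hE₃ne : E₃ ≠ ⊥)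
    (P : Subgroup G) (hPE : P ≤ E) (hP : (Nat.card P).Prime) :
    sigmaCore M ⊓ Subgroup.centralizer (E₃ : Set G) ≤ Subgroup.centralizer (P : Set G) := by
  classical
  obtain ⟨X, t, ht, hXcard, hXE⟩ := Cfsg.Agent.Lib.Helper27.BG.exists_prime_card_le hE₃ne
  haveI : Fact t.Prime := ⟨ht⟩
  have hX1 : X ≠ ⊥ := by
    intro h
    rw [h, Subgroup.card_bot] at hXcard
    exact ht.one_lt.ne' hXcard.symm
  have hXM : X ≤ M := (hXE.trans hE₃.1).trans hE.1
  have hXtop : X ≠ ⊤ := fun h => hM.1 (top_le_iff.mp (h ▸ hXM))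
  obtain ⟨H, hH, hNH⟩ := exists_coatom_ge (normalizer_ne_top hG hX1 hXtop)
  obtain ⟨hEH, hnc, hdich, hinf, hcen1, -⟩ := tau3_coatom hG h1403 h1404 h1405 h1414 h1415 h1416
    h1417 h1423 M hM E hE E₃ hE₃ X hXE (by rw [hXcard]; exact ht) H hH hNH
  rw [hXcard] at hdich
  have htτ : t ∈ tau3 M := hE₃.2.1 t ht (hXcard ▸ Subgroup.card_dvd_of_le hXE)
  have hP' := hP
  obtain ⟨p, hpdef⟩ : ∃ p : ℕ, p = Nat.card P := ⟨_, rfl⟩
  rw [← hpdef] at hP
  haveI : Fact p.Prime := ⟨hP⟩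
  have hHallM := (Cfsg.Agent.Lib.Helper66.BG.s1350_core hG h1404 h1405 M hM).1
  have hHallH := (Cfsg.Agent.Lib.Helper66.BG.s1350_core hG h1404 h1405 H hH).1
  have hpM : p ∉ sigma M := by
    intro hσ
    have h1 := hHallM.2.2 p hP hσ
    rw [relIndex_right_of_isComplIn hE] at h1
    exact h1 (hpdef ▸ Subgroup.card_dvd_of_le hPE)
  intro d hd
  rw [Subgroup.mem_centralizer_iff]
  intro ρ hρ
  have hdσ : d ∈ sigmaCore M := (Subgroup.mem_inf.mp hd).1
  have hdH : d ∈ H := by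
    have h1 : d ∈ sigmaCore M ⊓ H := by rw [hinf]; exact hd
    exact (Subgroup.mem_inf.mp h1).2
  have hρE : ρ ∈ E := hPE hρ
  have hρH : ρ ∈ H := hEH hρE
  have hρM : ρ ∈ M := hE.1 hρE
  have hρp1 : ρ ^ p = 1 := by
    rw [hpdef]
    exact orderOf_dvd_iff_pow_eq_one.mp (Subgroup.orderOf_dvd_natCard P hρ)
  have hρp : ρ ^ p ^ 1 = 1 := by rw [pow_one]; exact hρp1
  symm
  by_cases hpτ : p ∈ tau1 H
  swap
  · have h1 := hcen1 ρ hρE (fun r hr hrρ => by
      have h2 : r ∣ p := hrρ.trans (orderOf_dvd_of_pow_eq_one hρp1)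
      rw [(Nat.prime_dvd_prime_iff_eq hr hP).mp h2]; exact hpτ)
    exact Subgroup.mem_centralizer_iff.mp h1 d hd
  by_contra hne
  obtain ⟨y, hydef⟩ : ∃ y : G, y = d * ρ * d⁻¹ * ρ⁻¹ := ⟨_, rfl⟩
  have hy1 : y ≠ 1 := by
    intro h
    apply hne
    have : d * ρ = (d * ρ * d⁻¹ * ρ⁻¹) * (ρ * d) := by group
    rw [this, ← hydef, h, one_mul]
  have hyσ : y ∈ sigmaCore M := by rw [hydef]; exact comm_mem_sigmaCore hdσ hρM
  have hyH : y ∈ H := by
    rw [hydef]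
    exact H.mul_mem (H.mul_mem (H.mul_mem hdH hρH) (H.inv_mem hdH)) (H.inv_mem hρH)
  have hyD : y ∈ sigmaCore M ⊓ Subgroup.centralizer (E₃ : Set G) := by
    rw [← hinf]; exact Subgroup.mem_inf.mpr ⟨hyσ, hyH⟩
  have hyX : y ∈ Subgroup.centralizer (X : Set G) :=
    Subgroup.centralizer_le (SetLike.coe_subset_coe.mpr hXE) (Subgroup.mem_inf.mp hyD).2
  -- Step A: `t ∈ σ(H)`
  have htH : t ∈ sigma H := by
    rcases hdich with h | h
    · exact h
    · exfalso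
      apply hne
      exact comm_of_tau2_commutator hG h1403 h1404 h1405 h1414 h1416 h1417 h1418 hM hH hnc
        htτ.2.1 htτ.2.2.2 h hXcard hXM hpτ.2.1 hdσ hdH hρM hρH hρp (hydef ▸ hyX)
  have hXH : X ≤ H := Subgroup.le_normalizer.trans hNH
  have hXσ : X ≤ sigmaCore H :=
    Cfsg.Agent.Lib.Helper74.BG.le_of_isPiHallOf_of_normal hHallH
      (Cfsg.Agent.Lib.Helper67.BG.sigmaCore_normalizer H) hXH
      (fun r hr hdvd => by
        rw [hXcard] at hdvd
        rw [(Nat.prime_dvd_prime_iff_eq hr ht).mp hdvd]; exact htH)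
  have hcen : sigmaCore M ⊓ H ≤ Subgroup.centralizer (X : Set G) := by
    rw [hinf]
    exact inf_le_right.trans (Subgroup.centralizer_le (SetLike.coe_subset_coe.mpr hXE))
  have hyH' : y ∈ ⁅H, H⁆ := by
    rw [hydef]
    have := Subgroup.commutator_mem_commutator hdH hρH
    rwa [commutatorElement_def] at this
  -- Step B: the primes of `o(y)` lie in `τ₃(H)`
  have hτ3 : ∀ q : ℕ, q.Prime → q ∣ orderOf y → q ∈ tau3 H := fun q hq hqy =>
    mem_tau3_of_dvd_orderOf hG h1404 h1405 h1416 h1417 h1420 hSigma hM hH hnc hX1 hXσ hcen hyσ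
      hyH' hq hqy
  -- Step C
  obtain ⟨W, hWdef⟩ : ∃ W : Subgroup G, W = (sigmaCore M ⊔ Subgroup.zpowers ρ) ⊓ H := ⟨_, rfl⟩
  have hρW : ρ ∈ W := by
    rw [hWdef]; exact ⟨Subgroup.mem_sup_right (Subgroup.mem_zpowers ρ), hρH⟩
  have hyW : y ∈ W := by
    rw [hWdef]; exact ⟨Subgroup.mem_sup_left hyσ, hyH⟩
  have hWH : W ≤ H := by rw [hWdef]; exact inf_le_right
  have hWσ : ∀ r : ℕ, r.Prime → r ∣ Nat.card W → r ∉ sigma H := by
    intro r hr hr1 hrH
    have h0 : Nat.card W ∣ Nat.card (sigmaCore M ⊔ Subgroup.zpowers ρ : Subgroup G) := by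
      rw [hWdef]; exact Subgroup.card_dvd_of_le inf_le_left
    have h1 : r ∣ Nat.card (Subgroup.zpowers ρ) * Nat.card (sigmaCore M) := by
      have h3 := card_sup_sigmaCore_dvd (K := Subgroup.zpowers ρ) (M := M)
        ((Subgroup.zpowers_le).mpr hρM)
      rw [sup_comm] at h3
      exact (hr1.trans h0).trans h3
    rcases (Nat.Prime.dvd_mul hr).mp h1 with h2 | h2
    · have : r = p := Cfsg.Agent.Lib.Helper67.BG.prime_eq_of_dvd_card_isPGroup
        (isPGroup_zpowers13 hρp) hr h2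
      exact hpτ.2.1 (this ▸ hrH)
    · obtain ⟨g, hg⟩ := hSigma M H hM hH
        ⟨r, Cfsg.Agent.Lib.Helper67.BG.sigmaCore_isPi M r hr h2, hrH⟩
      exact hnc g hg
  obtain ⟨EH, hEH', hWE⟩ := Cfsg.Agent.Lib.Helper76.BG.exists_compl_ge hG H hH hHallH W hWH hWσ
  have hsolvE : Group.IsSolvable ↥EH :=
    isSolvable_of_ne_top hG (fun h => hH.1 (top_le_iff.mp (h ▸ hEH'.1)))
  obtain ⟨F₃, hF₃, hyF⟩ := Cfsg.Agent.Lib.Helper67.BG.exists_piHallOf_ge (tau3 H) EH hsolvE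
    (Subgroup.zpowers y) ((Subgroup.zpowers_le).mpr (hWE hyW))
    (fun q hq hdvd => hτ3 q hq (by rwa [Nat.card_zpowers] at hdvd))
  have hyF' : y ∈ F₃ := hyF (Subgroup.mem_zpowers y)
  have hsemi := tau3_semiprime hG h1403 h1404 h1405 h1414 h1415 h1416 h1417 h1423 H hH EH hEH'
    F₃ hF₃ y hyF' hy1
  have hXle : X ≤ sigmaCore H ⊓ Subgroup.centralizer (F₃ : Set G) := by
    rw [← hsemi]
    refine le_inf hXσ ?_
    intro x hx
    rw [Subgroup.mem_centralizer_iff]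
    intro h hh
    rw [Set.mem_singleton_iff] at hh
    rw [hh]
    exact (Subgroup.mem_centralizer_iff.mp hyX x hx).symm
  have hρ1 : ρ ≠ 1 := by
    intro h
    apply hne
    rw [h, mul_one, one_mul]
  have hPz := (Cfsg.Agent.Lib.Helper85.BG.le_zpowers_of_card_prime hP hpdef.symm hρ hρ1).1
  have hPEH : P ≤ EH := hPz.trans ((Subgroup.zpowers_le).mpr (hWE hρW))
  have hPc : P ≤ Subgroup.centralizer (F₃ : Set G) := by
    by_contra hcon
    have h5 := hP3 H hH EH hEH' F₃ hF₃ P hPEH hP' hcon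
    rw [h5] at hXle
    exact hX1 (le_bot_iff.mp hXle)
  have hcomm : y * ρ = ρ * y := Subgroup.mem_centralizer_iff.mp (hPc hρ) y hyF'
  apply hne
  apply comm_of_comm_commutator hρp
  · rw [← hydef]; exact orderOf_coprime_of_mem_sigmaCore hpM hyσ
  · rw [← hydef]; exact hcomm

/-- **B&G 13.11** (helper25's black box `Hyp1311`), from the σ-partition and B&G 13.10(b). -/
theorem hyp1311_of_p3 [Finite G] (hG : IsMinSimpleOddOrder G)
    (h1403 : type_of% (@Cfsg.CfsgFrozen.S1403 G _ _ hG))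
    (h1404 : type_of% (@Cfsg.CfsgFrozen.S1404 G _ _ hG))
    (h1405 : type_of% (@Cfsg.CfsgFrozen.S1405 G _ _ hG))
    (h1414 : type_of% (@Cfsg.CfsgFrozen.S1414 G _ _ hG))
    (h1415 : type_of% (@Cfsg.CfsgFrozen.S1415 G _ _ hG))
    (h1416 : type_of% (@Cfsg.CfsgFrozen.S1416 G _ _ hG))
    (h1417 : type_of% (@Cfsg.CfsgFrozen.S1417 G _ _ hG))
    (h1418 : type_of% (@Cfsg.CfsgFrozen.S1418 G _ _ hG))
    (h1420 : type_of% (@Cfsg.CfsgFrozen.S1420 G _ _ hG))
    (h1423 : type_of% (@Cfsg.CfsgFrozen.S1423 G _ _ hG))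
    (h1427 : type_of% (@Cfsg.CfsgFrozen.S1427 G _ _ hG))
    (h1428 : type_of% (@Cfsg.CfsgFrozen.S1428 G _ _ hG))
    (hSigma : ∀ M N : Subgroup G, IsCoatom M → IsCoatom N → (sigma M ∩ sigma N).Nonempty →
      ∃ g : G, N = M.map (MulAut.conj g).toMonoidHom)
    (hP3 : ∀ M : Subgroup G, IsCoatom M → ∀ E : Subgroup G, IsComplIn E (sigmaCore M) M →
      ∀ E₃ : Subgroup G, IsPiHallOf (tau3 M) E₃ E → ∀ P : Subgroup G, P ≤ E →
        (Nat.card P).Prime → ¬ P ≤ Subgroup.centralizer (E₃ : Set G) →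
        sigmaCore M ⊓ Subgroup.centralizer (E₃ : Set G) = ⊥) :
    Cfsg.Agent.Lib.Helper25.BG30.Hyp1311 G := by
  classical
  intro M hM E hE r hr R hRE hRcard hne
  have hrp : r.Prime := hr.1
  have hEtop : E ≠ ⊤ := fun h => hM.1 (top_le_iff.mp (h ▸ hE.1))
  have hsolvE : Group.IsSolvable ↥E := isSolvable_of_ne_top hG hEtop
  obtain ⟨E₃, hE₃, hRE₃⟩ := Cfsg.Agent.Lib.Helper67.BG.exists_piHallOf_ge (tau3 M) E hsolvE R hRE
    (fun q hq hdvd => by
      rw [hRcard] at hdvd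
      rw [(Nat.prime_dvd_prime_iff_eq hq hrp).mp hdvd]; exact hr)
  have hR1 : R ≠ ⊥ := by
    intro h
    rw [h, Subgroup.card_bot] at hRcard
    exact hrp.one_lt.ne' hRcard.symm
  have hE₃ne : E₃ ≠ ⊥ := fun h => hR1 (le_bot_iff.mp (h ▸ hRE₃))
  obtain ⟨-, hE₁c, h3⟩ := h1415 M hM E hE
  obtain ⟨hcyc₃, -, hEN⟩ := h3 E₃ hE₃
  have hsemi3 := tau3_semiprime hG h1403 h1404 h1405 h1414 h1415 h1416 h1417 h1423 M hM E hE
    E₃ hE₃
  -- `D₃ ≠ 1`
  have hD3 : sigmaCore M ⊓ Subgroup.centralizer (E₃ : Set G) ≠ ⊥ := by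
    obtain ⟨x, hx, hx1⟩ := exists_mem_ne_one_of_ne_bot hR1
    rw [← hsemi3 x (hRE₃ hx) hx1]
    intro h
    apply hne
    rw [eq_bot_iff, ← h]
    exact inf_le_inf_left _ (Subgroup.centralizer_le (Set.singleton_subset_iff.mpr hx))
  have hτ2 := tau2_empty hG h1403 h1404 h1405 h1414 h1415 h1416 h1417 h1423 M hM E hE E₃ hE₃
    hD3 hE₃ne
  have hp4 := p4_centralizes hG h1403 h1404 h1405 h1414 h1415 h1416 h1417 h1418 h1420 h1423
    hSigma hP3 M hM E hE E₃ hE₃ hE₃ne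
  -- every subgroup of prime order of `E` centralizes `E₃`
  have hcenE₃ : ∀ P : Subgroup G, P ≤ E → (Nat.card P).Prime →
      P ≤ Subgroup.centralizer (E₃ : Set G) := by
    intro P hPE hP
    by_contra hcon
    exact hD3 (hP3 M hM E hE E₃ hE₃ P hPE hP hcon)
  -- `D₃` centralizes `E`
  obtain ⟨E₁, hE₁, -⟩ := Cfsg.Agent.Lib.Helper67.BG.exists_piHallOf_ge (tau1 M) E hsolvE ⊥ bot_le
    (fun q hq hdvd => by
      rw [Subgroup.card_bot] at hdvd
      exact absurd (Nat.dvd_one.mp hdvd) hq.one_lt.ne')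
  obtain ⟨hsup, -, -, -⟩ := tau3_tau1_split hG h1404 h1405 h1415 M hM E hE hτ2 E₃ hE₃ E₁ hE₁
  have hD3E₁ : sigmaCore M ⊓ Subgroup.centralizer (E₃ : Set G) ≤
      Subgroup.centralizer (E₁ : Set G) := by
    by_cases hE₁b : E₁ = ⊥
    · rw [hE₁b]
      intro c _
      rw [Subgroup.mem_centralizer_iff]
      intro h hh
      rw [Subgroup.coe_bot, Set.mem_singleton_iff] at hh
      rw [hh, one_mul, mul_one]
    · obtain ⟨P, p, hp, hPcard, hPE₁⟩ := Cfsg.Agent.Lib.Helper27.BG.exists_prime_card_le hE₁b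
      have h1 := hp4 P (hPE₁.trans hE₁.1) (by rw [hPcard]; exact hp)
      have hP1 : P ≠ ⊥ := by
        intro h
        rw [h, Subgroup.card_bot] at hPcard
        exact hp.one_lt.ne' hPcard.symm
      obtain ⟨ρ, hρ, hρ1⟩ := exists_mem_ne_one_of_ne_bot hP1
      have h2 := Cfsg.Agent.Lib.Helper85.BG.tau1_semiprime hG h1415 h1427 h1428 M hM E hE E₁ hE₁
        ρ (hPE₁ hρ) hρ1
      intro c hc
      have h3 : c ∈ sigmaCore M ⊓ Subgroup.centralizer ({ρ} : Set G) :=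
        Subgroup.mem_inf.mpr ⟨(Subgroup.mem_inf.mp hc).1,
          Subgroup.centralizer_le (Set.singleton_subset_iff.mpr hρ) (h1 hc)⟩
      rw [h2] at h3
      exact (Subgroup.mem_inf.mp h3).2
  have hD3E : sigmaCore M ⊓ Subgroup.centralizer (E₃ : Set G) =
      sigmaCore M ⊓ Subgroup.centralizer (E : Set G) := by
    apply le_antisymm
    · intro c hc
      refine Subgroup.mem_inf.mpr ⟨(Subgroup.mem_inf.mp hc).1, ?_⟩
      have hc3 : Subgroup.zpowers c ≤ Subgroup.centralizer (E₃ : Set G) :=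
        (Subgroup.zpowers_le).mpr (Subgroup.mem_inf.mp hc).2
      have hc1 : Subgroup.zpowers c ≤ Subgroup.centralizer (E₁ : Set G) :=
        (Subgroup.zpowers_le).mpr (hD3E₁ hc)
      have h5 : E ≤ Subgroup.centralizer ((Subgroup.zpowers c : Subgroup G) : Set G) := by
        rw [← hsup]
        exact sup_le (Subgroup.le_centralizer_iff.mp hc3) (Subgroup.le_centralizer_iff.mp hc1)
      exact Subgroup.le_centralizer_iff.mp h5 (Subgroup.mem_zpowers c)
    · exact inf_le_inf_left _ (Subgroup.centralizer_le (SetLike.coe_subset_coe.mpr hE₃.1))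
  refine ⟨Set.eq_empty_iff_forall_notMem.mpr hτ2, ?_, ?_⟩
  · -- `E` acts in a prime manner
    intro x hx hx1
    apply le_antisymm
    · intro c hc
      obtain ⟨hcσ, hcx⟩ := Subgroup.mem_inf.mp hc
      rw [← hD3E]
      have hox : orderOf x ≠ 1 := fun h => hx1 (orderOf_eq_one_iff.mp h)
      obtain ⟨q, hq, hqx⟩ := Nat.exists_prime_and_dvd hox
      obtain ⟨z, hzdef⟩ : ∃ z : G, z = x ^ (orderOf x / q) := ⟨_, rfl⟩
      have hzo : orderOf z = q := by
        rw [hzdef]; exact orderOf_pow_orderOf_div (orderOf_pos x).ne' hqx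
      have hzE : z ∈ E := by rw [hzdef]; exact Subgroup.pow_mem _ hx _
      have hz1 : z ≠ 1 := by
        intro h
        rw [h, orderOf_one] at hzo
        exact hq.one_lt.ne' hzo.symm
      have hcz : c ∈ Subgroup.centralizer ({z} : Set G) := by
        rw [Subgroup.mem_centralizer_iff]
        intro h hh
        rw [Set.mem_singleton_iff] at hh
        rw [hh, hzdef]
        have hcx' : Commute x c := Subgroup.mem_centralizer_iff.mp hcx x (Set.mem_singleton x)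
        exact (hcx'.pow_left _).eq
      have hZE : Subgroup.zpowers z ≤ E := (Subgroup.zpowers_le).mpr hzE
      have hZcard : Nat.card (Subgroup.zpowers z) = q := by rw [Nat.card_zpowers, hzo]
      have hqE : q ∣ Nat.card E := hZcard ▸ Subgroup.card_dvd_of_le hZE
      rcases mem_tau_of_dvd_card_compl hG h1404 h1405 hM hE hq hqE with h | h | h
      · -- `q ∈ τ₁(M)`
        have hPc := hcenE₃ (Subgroup.zpowers z) hZE (by rw [hZcard]; exact hq)
        obtain ⟨X, t, ht, hXcard, hXE₃⟩ := Cfsg.Agent.Lib.Helper27.BG.exists_prime_card_le hE₃ne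
        have h8 := h1428 M hM E hE q h (Subgroup.zpowers z) hZE hZcard X
          (le_inf (hXE₃.trans hE₃.1) (Subgroup.le_centralizer_iff.mp
            (hPc.trans (Subgroup.centralizer_le (SetLike.coe_subset_coe.mpr hXE₃)))))
          (by rw [hXcard]; exact ht)
        have h9 : c ∈ sigmaCore M ⊓
            Subgroup.centralizer ((Subgroup.zpowers z : Subgroup G) : Set G) := by
          rw [Cfsg.Agent.Lib.Helper85.BG.centralizer_zpowers_eq_singleton]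
          exact Subgroup.mem_inf.mpr ⟨hcσ, hcz⟩
        have h10 := h8 h9
        have hX1 : X ≠ ⊥ := by
          intro h'
          rw [h', Subgroup.card_bot] at hXcard
          exact ht.one_lt.ne' hXcard.symm
        obtain ⟨x₀, hx₀, hx₀1⟩ := exists_mem_ne_one_of_ne_bot hX1
        rw [← hsemi3 x₀ (hXE₃ hx₀) hx₀1]
        exact Subgroup.mem_inf.mpr ⟨hcσ,
          Subgroup.centralizer_le (Set.singleton_subset_iff.mpr hx₀) (Subgroup.mem_inf.mp h10).2⟩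
      · exact absurd h (hτ2 q)
      · -- `q ∈ τ₃(M)`
        have hZE₃ : Subgroup.zpowers z ≤ E₃ :=
          Cfsg.Agent.Lib.Helper74.BG.le_of_isPiHallOf_of_normal hE₃ hEN hZE
            (fun r' hr' hdvd => by
              rw [hZcard] at hdvd
              rw [(Nat.prime_dvd_prime_iff_eq hr' hq).mp hdvd]; exact h)
        rw [← hsemi3 z (hZE₃ (Subgroup.mem_zpowers z)) hz1]
        exact Subgroup.mem_inf.mpr ⟨hcσ, hcz⟩
    · exact inf_le_inf_left _ (Subgroup.centralizer_le (Set.singleton_subset_iff.mpr hx))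
  · -- subgroups of prime order are normal in `E`
    intro X hXE hX
    obtain ⟨q, hqdef⟩ : ∃ q : ℕ, q = Nat.card X := ⟨_, rfl⟩
    have hq : q.Prime := hqdef ▸ hX
    have hqE : q ∣ Nat.card E := hqdef ▸ Subgroup.card_dvd_of_le hXE
    rcases mem_tau_of_dvd_card_compl hG h1404 h1405 hM hE hq hqE with h | h | h
    · have hXc := hcenE₃ X hXE hX
      obtain ⟨F₁, hF₁, hXF₁⟩ := Cfsg.Agent.Lib.Helper67.BG.exists_piHallOf_ge (tau1 M) E hsolvE
        X hXE (fun r' hr' hdvd => by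
          rw [← hqdef] at hdvd
          rw [(Nat.prime_dvd_prime_iff_eq hr' hq).mp hdvd]; exact h)
      have hF₁c : IsCyclic F₁ := hE₁c F₁ hF₁
      obtain ⟨hsup', -, -, -⟩ := tau3_tau1_split hG h1404 h1405 h1415 M hM E hE hτ2 E₃ hE₃ F₁ hF₁
      rw [← hsup']
      refine sup_le ?_ ?_
      · exact (Subgroup.le_centralizer_iff.mp hXc).trans (centralizer_le_normalizer' X)
      · exact Subgroup.le_normalizer.trans
          (Cfsg.Agent.Lib.Helper77.normalizer_le_normalizer_of_isCyclic hF₁c hXF₁)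
    · exact absurd h (hτ2 q)
    · have hXE₃ : X ≤ E₃ :=
        Cfsg.Agent.Lib.Helper74.BG.le_of_isPiHallOf_of_normal hE₃ hEN hXE
          (fun r' hr' hdvd => by
            rw [← hqdef] at hdvd
            rw [(Nat.prime_dvd_prime_iff_eq hr' hq).mp hdvd]; exact h)
      exact hEN.trans (Cfsg.Agent.Lib.Helper77.normalizer_le_normalizer_of_isCyclic hcyc₃ hXE₃)

end Cfsg.Agent.Lib.Helper97.BG
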